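/-
Cohomological dimension tested on sheaves killed by a prime.
-/
import Groth.Agent.EtCdPhiLib.Main
import Groth.Agent.CdCharPLib.Main
import Groth.Agent.EtShLib.TorsionCoh

set_option autoImplicit false
set_option linter.all false
set_option backward.isDefEq.respectTransparency false
set_option backward.isDefEq.respectTransparency.types false
set_option synthInstance.maxHeartbeats 400000
set_option maxHeartbeats 1000000

universe u

open CategoryTheory CategoryTheory.Limits CategoryTheory.Abelian AlgebraicGeometry Opposite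
open Groth.Agent Groth.Agent.EtShLib

attribute [local instance] EtSliceLib.pullExact

noncomputable section

namespace CdFieldLib

/-- Cohomological dimension for sheaves killed by `l`. -/
def CdK (X : Scheme.{u}) (l d : ℕ) : Prop :=
  ∀ F : EtCoh.Ab X, l • 𝟙 F = 0 → ∀ q : ℕ, d < q → Subsingleton (EtCoh.H X F q)

variable {X : Scheme.{u}} {l d : ℕ}

theorem cdK_of_at (h : Dix.CohDimLEAt X l d) : CdK X l d := fun F hF q hq =>
  h F (EtKummerLib.isPrimaryTorsion_of_nsmul_id l 1 (by rw [pow_one]; exact hF)) q hq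

theorem cdK_of_le (hl : 0 < l) (h : EtCoh.CohDimLE X d) : CdK X l d := fun F hF q hq => by
  refine h F (fun U s x => ⟨U, 𝟙 U, ⟨x, rfl⟩, isOfFinAddOrder_iff_nsmul_eq_zero.2 ⟨l, hl, ?_⟩⟩) q hq
  exact ((EtTransferLib.nsmul_id_app F l U _).symm.trans
    (congrArg (fun t : F ⟶ F => t.hom.app (op U) _) hF))

theorem CdK.mono {d' : ℕ} (h : CdK X l d) (hd : d ≤ d') : CdK X l d' := fun F hF q hq => h F hF q (by omega)

/-- Dévissage along the primes of the modulus. -/
theorem subsingleton_H_killed {N : ℕ} (hN : 0 < N) (h : ∀ p : ℕ, p.Prime → p ∣ N → CdK X p d) :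
    ∀ F : EtCoh.Ab X, N • 𝟙 F = 0 → ∀ q : ℕ, d < q → Subsingleton (EtCoh.H X F q) := by
  induction N using Nat.strong_induction_on with
  | _ N ih =>
  intro F hF q hq
  by_cases h1 : N = 1
  · subst h1
    rw [one_smul] at hF
    exact EtBcBridgeLib.subsingleton_H_of_isZero ((IsZero.iff_id_eq_zero F).2 hF) q
  obtain ⟨p, hp, hpN⟩ := Nat.exists_prime_and_dvd h1
  let g : F ⟶ F := p • 𝟙 F
  let S : ShortComplex (EtCoh.Ab X) := ShortComplex.mk (kernel.ι g) (Abelian.coimage.π g) (cokernel.condition _)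
  have hS : S.ShortExact :=
    { exact := ShortComplex.exact_of_g_is_cokernel _ (cokernelIsCokernel _) }
  have h3 : (N / p) • 𝟙 S.X₃ = 0 := by
    rw [← cancel_mono (Abelian.factorThruCoimage g), ← cancel_epi (Abelian.coimage.π g)]
    rw [Preadditive.nsmul_comp, Category.id_comp, zero_comp, comp_zero, Preadditive.comp_nsmul,
      Abelian.coimage.fac, show g = p • 𝟙 F from rfl, ← mul_smul, Nat.div_mul_cancel hpN, hF]
  refine PTorsCdLib.subsingleton_mid hS q (h p hp hpN _ (EtKummerLib.nsmul_id_kernel F p) q hq) ?_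
  exact ih (N / p) (Nat.div_lt_self hN hp.one_lt) (Nat.div_pos (Nat.le_of_dvd hN hpN) hp.pos)
    (fun p' hp' hd => h p' hp' (hd.trans (Nat.div_dvd_of_dvd hpN))) _ h3 q hq

/-- Torsion sheaves with moduli among `ok`. -/
theorem subsingleton_H_torsion [IsNoetherian X] {ok : ℕ → Prop} (hpos : ∀ m, ok m → 0 < m)
    (hmul : ∀ (ι : Type) [Fintype ι] (m : ι → ℕ), (∀ i, ok (m i)) → ∀ p : ℕ, p.Prime → p ∣ ∏ i, m i → CdK X p d)
    (F : EtCoh.Ab X) (hF : TorsionBy ok F) (q : ℕ) (hq : d < q) : Subsingleton (EtCoh.H X F q) := by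
  classical
  refine subsingleton_of_forall_eq 0 fun x => ?_
  obtain ⟨I, ι, hι, hI, z, rfl⟩ := PTorsCdLib.exists_cons_sub F (fun Ω _ _ ξ y => by
    obtain ⟨m, hm, h0⟩ := hF Ω ξ y
    exact ⟨m, hpos m hm, h0⟩) q x
  haveI := hι
  obtain ⟨a, U, m, hm, ψ, hψ⟩ := exists_epi_cons hI (hF.of_mono ι) hpos
  haveI := hψ
  have hN : (∏ i, m i) • 𝟙 I = 0 := PTorsCdLib.nsmul_id_of_epi ψ (PTorsCdLib.nsmul_id_biproduct _ fun i => by
    obtain ⟨c, hc⟩ := Finset.dvd_prod_of_mem m (Finset.mem_univ i)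
    rw [hc, mul_comm, mul_smul, nsmul_id_extConst, smul_zero])
  rw [(subsingleton_H_killed (Finset.prod_pos fun i _ => hpos _ (hm i).1)
    (hmul _ m fun i => (hm i).1) I hN q hq).elim z 0, Ext.zero_comp]

theorem cohDimLEAt_of_cdK [IsNoetherian X] (hl : l.Prime) (h : CdK X l d) : Dix.CohDimLEAt X l d := by
  intro F hF q hq
  refine subsingleton_H_torsion (ok := fun m => ∃ k, m = l ^ k) (fun m ⟨k, hk⟩ => hk ▸ pow_pos hl.pos k)
    (fun ι _ m hm p hp hd => ?_) F (fun Ω _ _ ξ y => ?_) q hq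
  · obtain ⟨i, -, hi⟩ := (hp.prime.dvd_finsetProd_iff m).1 hd
    obtain ⟨k, hk⟩ := hm i
    rw [(Nat.prime_dvd_prime_iff_eq hp hl).1 (hp.dvd_of_dvd_pow (hk ▸ hi))]
    exact h
  · obtain ⟨k, hk⟩ := CdCharPLib.exists_pow_nsmul_stk hF ξ y
    exact ⟨l ^ k, ⟨k, rfl⟩, hk⟩

theorem cohDimLE_of_cdK [IsNoetherian X] (h : ∀ p : ℕ, p.Prime → CdK X p d) : EtCoh.CohDimLE X d :=
  fun F hF q hq => subsingleton_H_torsion (ok := fun m => 0 < m) (fun _ hm => hm)
    (fun _ _ _ _ p hp _ => h p hp) F (torsionBy_of_isTorsion hF) q hq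

end CdFieldLib
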