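/-
Affine curves over a field, algebraic field extensions.
-/
import Groth.Agent.CdFieldLib.Killed
import Groth.Agent.CdAffineCurveLib.Main
import Groth.Agent.EtBcKilledLib.Killed
import Groth.Agent.EtContLib.Main
import Groth.Agent.S0149
import Groth.Agent.ConsLib.FGSystem
import Groth.Agent.S0620
import Groth.Agent.S14451
import Groth.Agent.S0736
import Groth.Agent.S12237
import Groth.Agent.WEtReducedLib.Basic
import Groth.Agent.EtPBCProperLib.SepCurve
import Groth.Agent.FibDimLib.Formula

set_option autoImplicit false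
set_option linter.all false
set_option backward.isDefEq.respectTransparency false
set_option backward.isDefEq.respectTransparency.types false
set_option synthInstance.maxHeartbeats 400000
set_option maxHeartbeats 1600000

universe u

open CategoryTheory CategoryTheory.Limits CategoryTheory.Abelian AlgebraicGeometry Opposite
open Groth.Agent Groth.Agent.EtShLib EtPBCProperLib SkySumLib

attribute [local instance] EtSliceLib.pullExact

noncomputable section

namespace CdFieldLib

/-- Vanishing along a limit of affine transition maps. -/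
theorem cdK_limit {I : Type u} [SmallCategory I] [IsCofiltered I] (D : I ⥤ Scheme.{u})
    [∀ {i j : I} (a : i ⟶ j), IsAffineHom (D.map a)]
    [∀ i, CompactSpace (D.obj i)] [∀ i, QuasiSeparatedSpace (D.obj i)]
    (c : Cone D) (hc : IsLimit c) {l d : ℕ} (h : ∀ i, CdK (D.obj i) l d) : CdK c.pt l d := by
  haveI : ∀ (i j : I) (f : i ⟶ j), IsAffineHom (D.map f) := fun i j f => inferInstance
  intro F hF q hq
  have hC := EtContLib.isLim_pushCoc c F hc
  have hψ := fun {k j : I} (a : k ⟶ j) => EtContLib.pushSys_compat c F a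
  refine subsingleton_of_forall_eq 0 fun ξ => ?_
  obtain ⟨i, x, hx⟩ := EtContLib.Sys.surjective' c (P := EtContLib.pushSys c F) hψ hc hC q ξ
  haveI : (EtCoh.push (c.π.app i)).Additive := { }
  haveI : Subsingleton (EtCoh.H (D.obj i) ((EtContLib.pushSys c F).F i) q) :=
    h i _ (CdPrimeLib.nsmul_id_map (EtCoh.push (c.π.app i)) hF) q hq
  rw [← hx, Subsingleton.elim x 0]
  exact map_zero _

/-- Finite morphisms do not raise it. -/
theorem cdK_finite {A B : Scheme.{u}} (e : A ⟶ B) [IsFinite e] {l d : ℕ} (h : CdK B l d) : CdK A l d := by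
  intro F hF q hq
  haveI : (EtCoh.push e).Additive := { }
  haveI := h ((EtCoh.push e).obj F) (CdPrimeLib.nsmul_id_map (EtCoh.push e) hF) q hq
  exact (Groth.Agent.S14451.result e F (fun j hj => isZero_rightDerived_push_finite e _ j hj) q).2.subsingleton

/-- Algebraic extensions do not raise it. -/
theorem cdK_algebraic {K L : Type u} [Field K] [Field L] [Algebra K L] [Algebra.IsAlgebraic K L] {l d : ℕ}
    (h : CdK (Spec (CommRingCat.of K)) l d) : CdK (Spec (CommRingCat.of L)) l d := by
  let A := ConsLib.fgSys K L (Iso.refl (Spec (CommRingCat.of K)))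
  haveI : ∀ {i j : (ConsLib.FGSub K L)ᵒᵖ} (a : i ⟶ j), IsAffineHom (A.D.map a) := fun a => A.affine_map a
  haveI : ∀ i, CompactSpace (A.D.obj i) := A.compactSpace_obj
  haveI : ∀ i, QuasiSeparatedSpace (A.D.obj i) := A.quasiSeparatedSpace_obj
  refine cdK_limit A.D A.c A.hc fun i => ?_
  haveI : IsFinite (A.t i) := by
    haveI : Algebra.FiniteType K i.unop.1 := ⟨(Subalgebra.fg_top _).mpr i.unop.2⟩
    haveI : Algebra.IsIntegral K i.unop.1 := ⟨fun x => (isIntegral_algHom_iff i.unop.1.val Subtype.val_injective).1 (Algebra.IsIntegral.isIntegral (x : L))⟩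
    haveI : Module.Finite K i.unop.1 := Algebra.IsIntegral.finite
    haveI : IsFinite (Spec.map (CommRingCat.ofHom (algebraMap K i.unop.1))) :=
      (IsFinite.SpecMap_iff _).2 (RingHom.finite_algebraMap.2 inferInstance)
    exact MorphismProperty.comp_mem (W := @IsFinite) _ _ ‹_› inferInstance
  exact cdK_finite (A.t i) h

/-- A strict henselization of a field is a field. -/
theorem isField_strictHenselization (A R : Type u) [CommRing A] [IsLocalRing A] (hA : IsField A) [CommRing R]
    [IsLocalRing R] [Algebra A R] [IsLocalHom (algebraMap A R)] [Hensel.IsStrictHenselization A R] : IsField R := by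
  letI := hA.toField
  have hind := Groth.Agent.S12237.result A R
  haveI := Groth.Agent.S0736.result A R hind
  haveI : IsReduced R := WEtReducedLib.isReduced_of_weaklyEtale A R
  haveI : Algebra.IsIntegral A R := ⟨fun x => by
    obtain ⟨J, _, _, D, c, hc, het, ⟨e⟩⟩ := hind
    obtain ⟨j, y, hy⟩ := Concrete.isColimit_exists_rep (D ⋙ Under.forget _)
      (isColimitOfPreserves (Under.forget _) hc) ((Under.forget _).map e.inv x)
    letI := (D.obj j).hom.hom.toAlgebra
    haveI := het j
    haveI : Module.Finite A (D.obj j).right := Algebra.FormallyUnramified.finite_of_free A (D.obj j).right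
    let φ : (D.obj j).right →ₐ[A] R :=
      { ((c.ι.app j).right ≫ e.hom.right).hom with
        commutes' := fun r => congrArg (fun t => t.hom r) (Under.w (c.ι.app j ≫ e.hom)) }
    let y' : (D.obj j).right := y
    have h := (Algebra.IsIntegral.isIntegral (R := A) y').map φ
    have hx : φ y' = x := by
      show e.hom.right.hom ((c.ι.app j).right.hom y) = x
      rw [show (c.ι.app j).right.hom y = e.inv.right.hom x from hy]
      exact congrArg (fun t => t.right.hom x) e.inv_hom_id
    exact hx ▸ h⟩
  rw [IsLocalRing.isField_iff_maximalIdeal_eq, eq_bot_iff]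
  intro x hx
  have h : nilradical R = IsLocalRing.maximalIdeal R := by
    refine le_antisymm (IsLocalRing.le_maximalIdeal (by simp [nilradical_eq_zero])) ?_
    rw [nilradical_eq_sInf]
    refine le_sInf fun P hP => ?_
    haveI : P.IsPrime := hP
    haveI : (P.comap (algebraMap A R)).IsMaximal := by
      rw [Ideal.eq_bot_of_prime (P.comap (algebraMap A R))]
      exact Ideal.bot_isMaximal
    exact (IsLocalRing.eq_maximalIdeal (Ideal.isMaximal_of_isIntegral_of_isMaximal_comap (R := A) P ‹_›)).ge
  rw [← h, nilradical_eq_zero] at hx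
  exact hx

theorem isSepClosed_of_isField (R : Type u) [Field R] (h : IsSepClosed (IsLocalRing.ResidueField R)) : IsSepClosed R :=
  haveI := h
  WLocalLib.isSepClosed_of_equiv
    (RingEquiv.ofBijective (IsLocalRing.residue R) ⟨(IsLocalRing.residue R).injective, IsLocalRing.residue_surjective⟩).symm

theorem isField_stalk {K : Type u} [Field K] (y : ↥(Spec (CommRingCat.of K))) :
    IsField ((Spec (CommRingCat.of K)).presheaf.stalk y) := by
  rw [Subsingleton.elim y (genericPoint ↥(Spec (CommRingCat.of K)))]
  exact Field.toIsField ((Spec (CommRingCat.of K)).functionField)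

/-- An affine curve over a separably closed field. -/
theorem cohDimLE_one_sepClosed (k : Type u) [Field k] [IsSepClosed k] {X : Scheme.{u}} [IsAffine X]
    (f : X ⟶ Spec (CommRingCat.of k)) [LocallyOfFiniteType f]
    (hdim : topologicalKrullDim X ≤ 1) : EtCoh.CohDimLE X 1 := by
  let kb := AlgebraicClosure k
  obtain ⟨i₁, i₂, i₃⟩ := EtExtLib.universalHomeo_spR k kb
  let a := pullback.fst f (FEtProper.spR k kb)
  haveI : IsIntegralHom a := MorphismProperty.pullback_fst _ _ i₁
  haveI : UniversallyInjective a := MorphismProperty.pullback_fst _ _ i₂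
  haveI : Surjective a := MorphismProperty.pullback_fst _ _ i₃
  haveI : IsAffine (pullback f (FEtProper.spR k kb)) := isAffine_of_isAffineHom a
  exact CdAffineCurveLib.cohDimLE_of_homeo a (CdAffineCurveLib.cohDimLE_one kb (pullback.snd f (FEtProper.spR k kb))
    ((FibDimLib.topologicalKrullDim_pullback_field k kb f).trans_le hdim))

theorem curve_fibre {K : Type u} [Field K] {U : Scheme.{u}} [IsAffine U] (f : U ⟶ Spec (CommRingCat.of K))
    [LocallyOfFiniteType f] (hdim : topologicalKrullDim U ≤ 1) {l : ℕ} (hl : 0 < l) (R : Type u) [CommRing R]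
    [IsLocalRing R] (hR : IsField R) (hsep : IsSepClosed (IsLocalRing.ResidueField R))
    (v : Spec (CommRingCat.of R) ⟶ Spec (CommRingCat.of K)) (G : EtCoh.Ab U) (hG : l • 𝟙 G = 0) (q : ℕ) (hq : 1 < q) :
    Subsingleton (EtCoh.H (pullback f v) ((EtCoh.pull (pullback.fst f v)).obj G) q) := by
  obtain ⟨φ, rfl⟩ := Spec.map_surjective v
  let F : Field R := hR.toField
  haveI : IsSepClosed R := @isSepClosed_of_isField R F hsep
  letI : Algebra K R := φ.hom.toAlgebra
  haveI : IsAffine (pullback f (Spec.map φ)) := inferInstance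
  haveI : (EtCoh.pull (pullback.fst f (Spec.map φ))).Additive := (EtCoh.pullPushAdj _).left_adjoint_additive
  have hd : topologicalKrullDim ↑(pullback f (Spec.map φ)) ≤ 1 :=
    (FibDimLib.topologicalKrullDim_pullback_field K R f).trans_le hdim
  exact cdK_of_le hl (cohDimLE_one_sepClosed R (pullback.snd f (Spec.map φ)) hd) _
    (CdPrimeLib.nsmul_id_map (EtCoh.pull (pullback.fst f (Spec.map φ))) hG) q hq

/-- An affine curve over a field. -/
theorem cdK_curve {K : Type u} [Field K] {U : Scheme.{u}} [IsAffine U] (f : U ⟶ Spec (CommRingCat.of K))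
    [LocallyOfFiniteType f] (hdim : topologicalKrullDim U ≤ 1) {l d : ℕ} (hl : 0 < l)
    (h : CdK (Spec (CommRingCat.of K)) l d) : CdK U l (d + 1) := by
  have hR : ∀ (G : EtCoh.Ab U), l • 𝟙 G = 0 → ∀ s, IsZero ((EtCoh.Rpush f (s + 2)).obj G) := by
    intro G hG s
    refine isZero_of_geomPt_stalks _ fun y => ?_
    let R := HenselLib.SH ((Spec (CommRingCat.of K)).presheaf.stalk y)
    have hS : Hensel.IsStrictHenselization ((Spec (CommRingCat.of K)).presheaf.stalk y) R := inferInstance
    haveI := hS.henselian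
    haveI : IsSepClosed (IsLocalRing.ResidueField R) := hS.isSepClosure.sep_closed
    refine ⟨R, inferInstance, inferInstance, inferInstance, inferInstance, inferInstance, ?_⟩
    obtain ⟨e⟩ := Groth.Agent.S0620.result f G y R (s + 2)
    refine e.addCommGroupIsoToAddEquiv.toEquiv.subsingleton_congr.2 ?_
    let b := pullback.fst f (Hens2.specOf (Spec (CommRingCat.of K)) y R)
    haveI : (EtCoh.pull b).Additive := (EtCoh.pullPushAdj b).left_adjoint_additive
    have hR0 : IsField R := isField_strictHenselization _ R (isField_stalk y)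
    exact curve_fibre f hdim hl R hR0 ‹_› (Hens2.specOf (Spec (CommRingCat.of K)) y R) G hG (s + 2) (by omega)
  intro F hF q hq
  obtain ⟨p, rfl⟩ : ∃ p, q = p + 2 := ⟨q - 2, by omega⟩
  obtain ⟨J, m, hm, hJ, hJR, hJH⟩ := EtBcKilledLib.exists_embed' hl F ((EtBcKilledLib.killed_iff F).2 hF)
  let S : ShortComplex (EtCoh.Ab U) := ShortComplex.mk m (cokernel.π m) (cokernel.condition m)
  have hS : S.ShortExact := { exact := ShortComplex.exact_of_g_is_cokernel _ (cokernelIsCokernel _) }
  have hC : l • 𝟙 S.X₃ = 0 := (EtBcKilledLib.killed_iff _).1 (EtBcKilledLib.killed_cokernel m hJ)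
  have hCR : ∀ j, 0 < j → IsZero ((EtCoh.Rpush f j).obj S.X₃) := fun j hj => by
    obtain ⟨s, rfl⟩ : ∃ s, j = s + 1 := ⟨j - 1, by omega⟩
    let D := EtCechInjLib.derDelta (EtCoh.push f)
    haveI : IsIso (D.δ hS (s + 1)) := D.isIso_δ hS (s + 1) (hJR f s) (hJR f (s + 1))
    exact IsZero.of_iso (hR F hF s) (asIso (D.δ hS (s + 1)))
  haveI : (EtCoh.push f).Additive := { }
  haveI := h ((EtCoh.push f).obj S.X₃) (CdPrimeLib.nsmul_id_map (EtCoh.push f) hC) (p + 1) (by omega)
  haveI : Subsingleton (EtCoh.H U S.X₃ (p + 1)) := (Groth.Agent.S14451.result f S.X₃ hCR (p + 1)).2.subsingleton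
  refine subsingleton_of_forall_eq 0 fun x => ?_
  obtain ⟨y, hy⟩ := Ext.covariant_sequence_exact₁ (EtCoh.const U ℤ) hS x (@Subsingleton.elim _ (hJH (p + 1)) _ _)
    (show p + 1 + 1 = p + 2 from rfl)
  rw [← hy, Subsingleton.elim (α := EtCoh.H U S.X₃ (p + 1)) y 0, Ext.zero_comp]

end CdFieldLib
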