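/-
Field extensions of bounded transcendence degree.
-/
import Groth.Agent.CdFieldLib.Curve
import Groth.Agent.GenLimLib.Basic
import Groth.Agent.LocAcycPointLib.Main

set_option autoImplicit false
set_option linter.all false
set_option backward.isDefEq.respectTransparency false
set_option backward.isDefEq.respectTransparency.types false
set_option synthInstance.maxHeartbeats 400000
set_option maxHeartbeats 1600000

universe u

open CategoryTheory CategoryTheory.Limits AlgebraicGeometry Opposite Polynomial
open Groth.Agent

noncomputable section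

namespace CdFieldLib

/-- The rational function field in one variable. -/
theorem cdK_fractionRing_polynomial (K : Type u) [Field K] {l d : ℕ} (hl : 0 < l)
    (h : CdK (Spec (CommRingCat.of K)) l d) :
    CdK (Spec (CommRingCat.of (FractionRing (Polynomial K)))) l (d + 1) := by
  let M := nonZeroDivisors (Polynomial K)
  haveI : ∀ {i j : (GenLim.Idx M)ᵒᵖ} (a : i ⟶ j), IsAffineHom ((GenLim.sys M).map a) :=
    fun a => GenLim.isAffineHom_map M _ _ a
  refine cdK_limit (GenLim.sys M) (GenLim.cone M (FractionRing (Polynomial K))) (GenLim.isLimit M _) fun i => ?_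
  let A := Localization.Away i.unop.val
  haveI : Algebra.FiniteType (Polynomial K) A := inferInstance
  haveI : Algebra.FiniteType K A := Algebra.FiniteType.trans (R := K) (S := Polynomial K) (A := A)
    inferInstance inferInstance
  let f : Spec (CommRingCat.of A) ⟶ Spec (CommRingCat.of K) := Spec.map (CommRingCat.ofHom (algebraMap K A))
  haveI : LocallyOfFiniteType f :=
    (HasRingHomProperty.Spec_iff (P := @LocallyOfFiniteType)).2 (RingHom.finiteType_algebraMap.2 ‹_›)
  refine cdK_curve (U := Spec (CommRingCat.of A)) f ?_ hl h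
  show topologicalKrullDim (PrimeSpectrum A) ≤ 1
  refine ((PrimeSpectrum.localization_comap_isInducing A (Submonoid.powers i.unop.val)).topologicalKrullDim_le).trans ?_
  rw [PrimeSpectrum.topologicalKrullDim_eq_ringKrullDim, Polynomial.ringKrullDim_of_isNoetherianRing,
    ringKrullDim_eq_zero_of_field, zero_add]

/-- Transcendence degree bounds the increase. -/
theorem cdK_trdeg {l : ℕ} (hl : 0 < l) : ∀ (n : ℕ) (K L : Type u) [Field K] [Field L] [Algebra K L],
    Algebra.trdeg K L ≤ n → ∀ d : ℕ, CdK (Spec (CommRingCat.of K)) l d →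
      CdK (Spec (CommRingCat.of L)) l (d + n) := by
  intro n
  induction n with
  | zero =>
    intro K L _ _ _ h d hd
    haveI : Algebra.IsAlgebraic K L :=
      trdeg_eq_zero_iff.1 (le_antisymm (by simpa using h) zero_le)
    exact cdK_algebraic hd
  | succ n ih =>
    intro K L _ _ _ h d hd
    by_cases halg : Algebra.IsAlgebraic K L
    · exact (cdK_algebraic hd).mono (by omega)
    obtain ⟨t, ht⟩ := (Algebra.transcendental_iff_not_isAlgebraic.2 halg).transcendental
    have hinj : Function.Injective (Polynomial.aeval t : Polynomial K →ₐ[K] L) :=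
      transcendental_iff_injective.1 ht
    let φ : FractionRing (Polynomial K) →ₐ[K] L := IsFractionRing.liftAlgHom hinj
    letI := φ.toRingHom.toAlgebra
    haveI : IsScalarTower K (FractionRing (Polynomial K)) L := IsScalarTower.of_algHom φ
    haveI : FaithfulSMul K (FractionRing (Polynomial K)) :=
      (faithfulSMul_iff_algebraMap_injective _ _).2 (algebraMap K (FractionRing (Polynomial K))).injective
    haveI : FaithfulSMul (FractionRing (Polynomial K)) L :=
      (faithfulSMul_iff_algebraMap_injective _ _).2 (algebraMap (FractionRing (Polynomial K)) L).injective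
    haveI : Algebra.Transcendental K (FractionRing (Polynomial K)) :=
      ⟨⟨algebraMap (Polynomial K) (FractionRing (Polynomial K)) Polynomial.X,
        (transcendental_algebraMap_iff (IsFractionRing.injective _ _)).2 (Polynomial.transcendental_X K)⟩⟩
    have hadd := trdeg_add_eq K (FractionRing (Polynomial K)) (A := L)
    have h1 : (1 : Cardinal) ≤ Algebra.trdeg K (FractionRing (Polynomial K)) :=
      Cardinal.one_le_iff_pos.2 (trdeg_pos _ _)
    have h2 : 1 + Algebra.trdeg (FractionRing (Polynomial K)) L ≤ (n + 1 : ℕ) :=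
      ((add_le_add h1 le_rfl).trans hadd.le).trans h
    obtain ⟨m, hm⟩ := Cardinal.lt_aleph0.1 ((le_add_self.trans h2).trans_lt Cardinal.natCast_lt_aleph0)
    have hle : Algebra.trdeg (FractionRing (Polynomial K)) L ≤ n := by
      rw [hm] at h2 ⊢
      norm_cast at h2 ⊢
      omega
    exact (ih _ L hle (d + 1) (cdK_fractionRing_polynomial K hl hd)).mono (by omega)

theorem isNoetherian_spec_field (K : Type u) [Field K] : IsNoetherian (Spec (CommRingCat.of K)) := inferInstance

/-- Field extensions: `ℓ`-primary torsion. -/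
theorem cohDimLEAt_trdeg {l : ℕ} (hl : l.Prime) {K L : Type u} [Field K] [Field L] [Algebra K L] {n d : ℕ}
    (h : Algebra.trdeg K L ≤ n) (hd : Dix.CohDimLEAt (Spec (CommRingCat.of K)) l d) :
    Dix.CohDimLEAt (Spec (CommRingCat.of L)) l (d + n) :=
  haveI := isNoetherian_spec_field L
  cohDimLEAt_of_cdK hl (cdK_trdeg hl.pos n K L h d (cdK_of_at hd))

/-- Field extensions: all torsion. -/
theorem cohDimLE_trdeg {K L : Type u} [Field K] [Field L] [Algebra K L] {n d : ℕ}
    (h : Algebra.trdeg K L ≤ n) (hd : EtCoh.CohDimLE (Spec (CommRingCat.of K)) d) :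
    EtCoh.CohDimLE (Spec (CommRingCat.of L)) (d + n) :=
  haveI := isNoetherian_spec_field L
  cohDimLE_of_cdK fun p hp => cdK_trdeg hp.pos n K L h d (cdK_of_le hp.pos hd)

/-- A separably closed field has dimension zero. -/
theorem cdK_sepClosed (K : Type u) [Field K] [IsSepClosed K] (l : ℕ) :
    CdK (Spec (CommRingCat.of K)) l 0 := fun F _ q hq => by
  obtain ⟨p, rfl⟩ : ∃ p, q = p + 1 := ⟨q - 1, by omega⟩
  exact LocAcycPointLib.subsingleton_H_finite (𝟙 (Spec (CommRingCat.of K))) F p

/-- Over a separably closed field. -/
theorem cohDimLEAt_trdeg_sepClosed {l : ℕ} (hl : l.Prime) (K L : Type u) [Field K] [IsSepClosed K] [Field L]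
    [Algebra K L] {n : ℕ} (h : Algebra.trdeg K L ≤ n) :
    Dix.CohDimLEAt (Spec (CommRingCat.of L)) l n :=
  haveI := isNoetherian_spec_field L
  Nat.zero_add n ▸ cohDimLEAt_of_cdK hl (cdK_trdeg hl.pos n K L h 0 (cdK_sepClosed K l))

end CdFieldLib
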