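/-
Base change of a cofiltered limit of schemes.
-/
import Groth.Agent.CdFieldLib.Field

set_option autoImplicit false
set_option linter.all false
set_option backward.isDefEq.respectTransparency false
set_option backward.isDefEq.respectTransparency.types false

universe u

open CategoryTheory CategoryTheory.Limits AlgebraicGeometry Opposite
open Groth.Agent

noncomputable section

namespace CdFieldLib

variable {I : Type u} [SmallCategory I] {S S' : Scheme.{u}} {D : I ⥤ Scheme.{u}} (t : ∀ i, D.obj i ⟶ S)
  (ht : ∀ {i j : I} (a : i ⟶ j), D.map a ≫ t j = t i) (g : S' ⟶ S)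

/-- The base changed diagram. -/
def bcDiag : I ⥤ Scheme.{u} where
  obj i := pullback (t i) g
  map {i j} a := pullback.lift (pullback.fst (t i) g ≫ D.map a) (pullback.snd (t i) g)
    (by rw [Category.assoc, ht, pullback.condition])
  map_id i := by apply pullback.hom_ext <;> simp
  map_comp a b := by apply pullback.hom_ext <;> simp

theorem bcDiag_fst {i j : I} (a : i ⟶ j) :
    (bcDiag t @ht g).map a ≫ pullback.fst (t j) g = pullback.fst (t i) g ≫ D.map a :=
  pullback.lift_fst _ _ _

theorem bcDiag_snd {i j : I} (a : i ⟶ j) :
    (bcDiag t @ht g).map a ≫ pullback.snd (t j) g = pullback.snd (t i) g :=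
  pullback.lift_snd _ _ _

/-- The projection. -/
def bcFst : bcDiag t @ht g ⟶ D where
  app i := pullback.fst (t i) g
  naturality i j a := bcDiag_fst t @ht g a

theorem isPullback_bcMap {i j : I} (a : i ⟶ j) :
    IsPullback ((bcDiag t @ht g).map a) (pullback.fst (t i) g) (pullback.fst (t j) g) (D.map a) := by
  refine IsPullback.of_right (h₁₂ := pullback.snd (t j) g) (v₁₃ := g) (h₂₂ := t j) ?_
    ((bcFst t @ht g).naturality a) (IsPullback.of_hasPullback (t j) g).flip
  rw [bcDiag_snd, ht a]
  exact (IsPullback.of_hasPullback (t i) g).flip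

theorem isAffineHom_bcMap {i j : I} (a : i ⟶ j) [IsAffineHom (D.map a)] :
    IsAffineHom ((bcDiag t @ht g).map a) :=
  MorphismProperty.of_isPullback (P := @IsAffineHom) (isPullback_bcMap t @ht g a).flip ‹IsAffineHom (D.map a)›

variable (c : Cone D) (s : c.pt ⟶ S) (hs : ∀ i, c.π.app i ≫ t i = s)

/-- The base changed cone. -/
def bcCone : Cone (bcDiag t @ht g) where
  pt := pullback s g
  π :=
    { app := fun i => pullback.lift (pullback.fst s g ≫ c.π.app i) (pullback.snd s g)
        (by rw [Category.assoc, hs, pullback.condition])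
      naturality := fun i j a => by
        dsimp only [Functor.const_obj_obj, Functor.const_obj_map]
        rw [Category.id_comp]
        refine pullback.hom_ext ?_ ?_
        · refine (pullback.lift_fst _ _ _).trans (Eq.symm ?_)
          refine (Category.assoc _ _ _).trans ((congrArg (_ ≫ ·) (bcDiag_fst t @ht g a)).trans ?_)
          refine ((Category.assoc _ _ _).symm.trans (congrArg (· ≫ D.map a) (pullback.lift_fst _ _ _))).trans ?_
          exact (Category.assoc _ _ _).trans (congrArg (pullback.fst s g ≫ ·) (c.w a))
        · refine (pullback.lift_snd _ _ _).trans (Eq.symm ?_)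
          exact (Category.assoc _ _ _).trans ((congrArg (_ ≫ ·) (bcDiag_snd t @ht g a)).trans (pullback.lift_snd _ _ _)) }

theorem bcCone_fst (i : I) :
    (bcCone t @ht g c s hs).π.app i ≫ pullback.fst (t i) g = pullback.fst s g ≫ c.π.app i :=
  pullback.lift_fst _ _ _

theorem bcCone_snd (i : I) :
    (bcCone t @ht g c s hs).π.app i ≫ pullback.snd (t i) g = pullback.snd s g :=
  pullback.lift_snd _ _ _

/-- The base changed cone is a limit. -/
def isLimitBcCone [IsConnected I] (hc : IsLimit c) : IsLimit (bcCone t @ht g c s hs) :=
  isLimitOfIsPullbackOfIsConnected (bcFst t @ht g) _ c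
    { hom := pullback.fst s g, w := fun i => (bcCone_fst t @ht g c s hs i).symm }
    (fun i => by
      refine IsPullback.of_right (h₁₂ := pullback.snd (t i) g) (v₁₃ := g) (h₂₂ := t i) ?_
        (bcCone_fst t @ht g c s hs i) (IsPullback.of_hasPullback (t i) g).flip
      rw [bcCone_snd, hs]
      exact (IsPullback.of_hasPullback s g).flip) hc

end CdFieldLib
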