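/-
Dimensions of closures of points of an algebraic scheme.
-/
import Groth.Agent.CdFieldLib.Field
import Groth.Agent.EquidimLib.DimBetween
import Groth.Agent.CycDivLib.Ord
import Groth.Agent.WeilLib.Dim
import Groth.Agent.BoxSurjLib.Envelope
import Groth.Agent.S3491

set_option autoImplicit false
set_option linter.all false
set_option backward.isDefEq.respectTransparency false
set_option backward.isDefEq.respectTransparency.types false
set_option synthInstance.maxHeartbeats 400000
set_option maxHeartbeats 1000000

universe u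

open CategoryTheory CategoryTheory.Limits AlgebraicGeometry Opposite
open Groth.Agent

noncomputable section

namespace CdFieldLib

variable {k : Type u} [Field k] {X : Scheme.{u}} (f : X ⟶ Spec (CommRingCat.of k)) [LocallyOfFiniteType f]

include f in
theorem exists_delta (x : X) : ∃ s : ℕ, topologicalKrullDim (closure ({x} : Set X)) = s := by
  let F : Over (Spec (CommRingCat.of k)) := Over.mk f
  obtain ⟨s, hs, -⟩ := @WeilLib.pdim_eq_trdeg k _ F ‹LocallyOfFiniteType f› x
  exact ⟨s, hs⟩

/-- The dimension of the closure of a point. -/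
def delta (x : X) : ℕ := (exists_delta f x).choose

theorem delta_spec (x : X) : topologicalKrullDim (closure ({x} : Set X)) = (delta f x : WithBot ℕ∞) :=
  (exists_delta f x).choose_spec

theorem delta_le {n : ℕ} (hn : topologicalKrullDim X ≤ (n : WithBot ℕ∞)) (x : X) : delta f x ≤ n := by
  have h := ((Topology.IsInducing.subtypeVal (t := closure ({x} : Set X))).topologicalKrullDim_le).trans hn
  rw [delta_spec f x] at h
  exact_mod_cast h

theorem fibreClosureDim_eq (x : X) :
    UOpenLib.fibreClosureDim f x = topologicalKrullDim (closure ({x} : Set X)) := by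
  haveI : Subsingleton ↥(Spec (CommRingCat.of k)) := inferInstanceAs (Subsingleton (PrimeSpectrum k))
  rw [UOpenLib.fibreClosureDim_eq_inter]
  have h : closure ({x} : Set X) ∩ f.base ⁻¹' {f.base x} = closure {x} :=
    Set.inter_eq_left.2 fun z _ => Subsingleton.elim _ _
  rw [h]

/-- Dimensions add up along a specialization. -/
theorem delta_eq_add (x y : X) (h : x ⤳ y) :
    (delta f x : WithBot ℕ∞) = (delta f y : WithBot ℕ∞) + EquidimLib.dimBetween x y := by
  haveI : Subsingleton ↥(Spec (CommRingCat.of k)) := inferInstanceAs (Subsingleton (PrimeSpectrum k))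
  have h1 := EquidimLib.fibreClosureDim_eq_add f h (Subsingleton.elim _ _)
  rwa [fibreClosureDim_eq, fibreClosureDim_eq, delta_spec f x, delta_spec f y] at h1

theorem exists_locQuot_dim (x y : X) (h : x ⤳ y) (hne : x ≠ y) : ∃ d : ℕ, 1 ≤ d ∧
    ringKrullDim (Cyc.LocQuot y x h) = d ∧ delta f y + d = delta f x := by
  haveI : IsLocallyNoetherian X := LocallyOfFiniteType.isLocallyNoetherian f
  obtain ⟨d, hd⟩ := EquidimLib.exists_dimBetween_eq_nat h
  have h1 := EquidimLib.one_le_dimBetween h hne
  have h2 := delta_eq_add f x y h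
  rw [hd] at h1 h2
  exact ⟨d, by exact_mod_cast h1, (CycDivLib.dim_locQuot h).trans hd, by exact_mod_cast h2.symm⟩

/-- The residue fields. -/
theorem cohDimLEAt_residueField {l : ℕ} (hl : l.Prime) {e : ℕ}
    (he : Dix.CohDimLEAt (Spec (CommRingCat.of k)) l e) (x : X) :
    Dix.CohDimLEAt (Spec (X.residueField x)) l (e + delta f x) := by
  let F : Over (Spec (CommRingCat.of k)) := Over.mk f
  obtain ⟨s, hs, hs'⟩ := @WeilLib.pdim_eq_trdeg k _ F ‹LocallyOfFiniteType f› x
  change topologicalKrullDim (closure ({x} : Set X)) = _ at hs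
  rw [delta_spec f x] at hs
  have hsd : delta f x = s := by exact_mod_cast hs
  letI : Algebra k (X.residueField x) := (WeilLib.kappaMap F x).hom.toAlgebra
  exact cohDimLEAt_trdeg hl (K := k) (L := X.residueField x) (hsd ▸ hs'.le) he

/-- The bound at the strictly local rings. -/
def LocBound (l : ℕ) : Prop :=
  ∀ (x y : X) (hxy : x ⤳ y) (R : Type u) [CommRing R] [IsLocalRing R] [Algebra (X.presheaf.stalk y) R]
    [IsLocalHom (algebraMap (X.presheaf.stalk y) R)] [Hensel.IsStrictHenselization (X.presheaf.stalk y) R],
    ∀ P ∈ ((RingHom.ker (Cyc.specMap y x hxy)).map (algebraMap (X.presheaf.stalk y) R)).minimalPrimes,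
      ∀ d : ℕ, ringKrullDim (Cyc.LocQuot y x hxy) = d →
        Dix.CohDimLEAt (Spec (CommRingCat.of (FractionRing (R ⧸ P)))) l d

include f in
theorem isNoetherian_of_field [QuasiCompact f] : IsNoetherian X :=
  { toIsLocallyNoetherian := LocallyOfFiniteType.isLocallyNoetherian f
    toCompactSpace := QuasiCompact.compactSpace_of_compactSpace f }

theorem cohDimLEAt_algebraic [QuasiCompact f] {l : ℕ} (hl : l.Prime) (H : LocBound (X := X) l) {n : ℕ}
    (hn : topologicalKrullDim X ≤ (n : WithBot ℕ∞)) {e : ℕ}
    (he : Dix.CohDimLEAt (Spec (CommRingCat.of k)) l e) : Dix.CohDimLEAt X l (2 * n + e) := by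
  haveI := isNoetherian_of_field f
  intro G hG q hq
  refine Groth.Agent.S3491.result X l hl (fun x => e + 2 * delta f x)
    (fun x F hF p hp => cohDimLEAt_residueField f hl he x F hF p (by omega))
    (fun x y hxy hne R _ _ _ _ _ P hP => ?_) G hG q (fun x _ => by have := delta_le f hn x; omega)
  obtain ⟨d, hd, hdim, hadd⟩ := exists_locQuot_dim f x y hxy hne
  exact ⟨d, by omega, H x y hxy R P hP d hdim⟩

end CdFieldLib
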