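/-
Cohomological dimension of algebraic schemes over a field.
-/
import Groth.Agent.CdFieldLib.Delta
import Groth.Agent.EtCdLocalLib.Spec

set_option autoImplicit false
set_option linter.all false
set_option backward.isDefEq.respectTransparency false
set_option backward.isDefEq.respectTransparency.types false
set_option synthInstance.maxHeartbeats 400000
set_option maxHeartbeats 1000000

universe u

open CategoryTheory CategoryTheory.Limits AlgebraicGeometry Opposite
open Groth.Agent

noncomputable section

namespace CdFieldLib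

variable {k : Type u} [Field k] {X : Scheme.{u}} (f : X ⟶ Spec (CommRingCat.of k)) [LocallyOfFiniteType f]
  [QuasiCompact f]

include f in
theorem cohDimLEAt_two_mul {l : ℕ} (hl : l.Prime) {n : ℕ} (hn : topologicalKrullDim X ≤ (n : WithBot ℕ∞)) {e : ℕ}
    (he : Dix.CohDimLEAt (Spec (CommRingCat.of k)) l e) : Dix.CohDimLEAt X l (2 * n + e) :=
  cohDimLEAt_algebraic f hl (fun x y hxy R _ _ _ _ _ P hP d hd =>
    haveI := hP.1.1
    EtCdLocalLib.cohDimLEAt_frac_of_specializes hl (fun k' K _ _ _ _ m hm => cohDimLEAt_trdeg_sepClosed hl k' K hm)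
      k f hxy R d ((CycDivLib.dim_locQuot hxy).symm.trans_le hd.le) P hP.1.2) hn he

include f in
theorem cohDimLE_two_mul {n : ℕ} (hn : topologicalKrullDim X ≤ (n : WithBot ℕ∞)) {e : ℕ}
    (he : EtCoh.CohDimLE (Spec (CommRingCat.of k)) e) : EtCoh.CohDimLE X (2 * n + e) :=
  haveI := isNoetherian_of_field f
  cohDimLE_of_cdK fun p hp => cdK_of_at (cohDimLEAt_two_mul f hp hn
    (haveI := isNoetherian_spec_field k; cohDimLEAt_of_cdK hp (cdK_of_le hp.pos he)))

end CdFieldLib
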