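/-
Relative cohomological dimension of morphisms of algebraic schemes.
-/
import Groth.Agent.CdFieldLib.Main
import Groth.Agent.CdFieldLib.BaseChange
import Groth.Agent.CdCurveLib.PushPt
import Groth.Agent.TopDimLib.QuasiFinite
import Groth.Agent.LocAcycBCLib.Alg
import Groth.Agent.S0537

set_option autoImplicit false
set_option linter.all false
set_option backward.isDefEq.respectTransparency false
set_option backward.isDefEq.respectTransparency.types false
set_option synthInstance.maxHeartbeats 400000
set_option maxHeartbeats 1600000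

universe u

open CategoryTheory CategoryTheory.Limits AlgebraicGeometry Opposite
open Groth.Agent Groth.Agent.EtShLib EtPBCProperLib EtRpushStalkLib

noncomputable section

namespace CdFieldLib

/-- A strictly henselian algebra over a field contains a separably closed field. -/
theorem exists_sepClosed_lift (K R : Type u) [Field K] [CommRing R] [IsLocalRing R] [HenselianLocalRing R]
    [IsSepClosed (IsLocalRing.ResidueField R)] (φ : K →+* R) :
    ∃ (K' : Type u) (_ : Field K') (_ : IsSepClosed K') (j : K →+* K') (ψ : K' →+* R), ψ.comp j = φ := by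
  obtain ⟨Rh, _, _, _, _, hS⟩ := Groth.Agent.S0537.result K
  haveI := hS
  haveI : IsLocalHom φ := ⟨fun a ha => isUnit_iff_ne_zero.2 fun h => not_isUnit_zero (by rwa [h, map_zero] at ha)⟩
  obtain ⟨g, -, hg⟩ := LocAcycBCLib.exists_lift (O := K) (R := Rh) φ
  have hF : IsField Rh := isField_strictHenselization K Rh (Field.toIsField K)
  let F : Field Rh := hF.toField
  exact ⟨Rh, F, @isSepClosed_of_isField Rh F hS.isSepClosure.sep_closed, algebraMap K Rh, g, hg⟩

variable {K : Type u} [Field K] {X Y : Scheme.{u}} (a : X ⟶ Spec (CommRingCat.of K))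
  (b : Y ⟶ Spec (CommRingCat.of K)) [LocallyOfFiniteType a] [QuasiCompact a]

include a b in
theorem cdK_fibre (f : X ⟶ Y) (w : f ≫ b = a) [QuasiCompact f] [QuasiSeparated f] {n : ℕ}
    (hn : topologicalKrullDim X ≤ (n : WithBot ℕ∞)) (y : Y) (R : Type u) [CommRing R] [IsLocalRing R]
    [Algebra (Y.presheaf.stalk y) R] [IsLocalHom (algebraMap (Y.presheaf.stalk y) R)]
    [Hensel.IsStrictHenselization (Y.presheaf.stalk y) R] [IsSepClosed (IsLocalRing.ResidueField R)]
    {p : ℕ} (hp : p.Prime) : CdK (pullback f (Hens2.specOf Y y R)) p (2 * n) := by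
  haveI : HenselianLocalRing R := Hensel.IsStrictHenselization.henselian (R := Y.presheaf.stalk y)
  let gS := Hens2.specOf Y y R
  obtain ⟨C⟩ := exists_chart y R
  let sq := IsPullback.of_hasPullback f gS
  let φ : K →+* R := (Spec.preimage (gS ≫ b)).hom
  have hφ : Spec.map (CommRingCat.ofHom φ) = gS ≫ b := Spec.map_preimage _
  obtain ⟨K', _, _, j, ψ, hψ⟩ := exists_sepClosed_lift K R φ
  let pr : Spec (CommRingCat.of K') ⟶ Spec (CommRingCat.of K) := Spec.map (CommRingCat.ofHom j)
  let t : ∀ i, (C.D f).obj i ⟶ Spec (CommRingCat.of K) := fun i => (C.t f).app i ≫ a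
  have ht : ∀ {i k : C.I} (e : i ⟶ k), (C.D f).map e ≫ t k = t i := fun {i k} e => by
    show (C.D f).map e ≫ (C.t f).app k ≫ a = _
    rw [← Category.assoc, (C.t f).naturality e]
    simp [t]
  let s : (C.c f sq).pt ⟶ Spec (CommRingCat.of K) := pullback.fst f gS ≫ a
  have hs : ∀ i, (C.c f sq).π.app i ≫ t i = s := fun i => by
    show _ ≫ (C.t f).app i ≫ a = _
    rw [← Category.assoc, C.c_hom f sq i]
  haveI := IsCofiltered.isConnected C.I
  haveI : ∀ {i k : C.I} (e : i ⟶ k), IsAffineHom ((bcDiag t @ht pr).map e) :=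
    fun e => isAffineHom_bcMap t @ht pr e
  haveI : ∀ i, LocallyOfFiniteType (t i) := fun i => by
    haveI : AlgebraicGeometry.Etale ((C.t f).app i) := ((EtCoh.bc f).obj (C.DS.obj i)).prop
    exact MorphismProperty.comp_mem (W := @LocallyOfFiniteType) _ _ inferInstance ‹LocallyOfFiniteType a›
  haveI : ∀ i, CompactSpace ((bcDiag t @ht pr).obj i) := fun i => by
    haveI := C.compactSpace_D f i
    exact QuasiCompact.compactSpace_of_compactSpace (pullback.fst (t i) pr)
  haveI : ∀ i, QuasiSeparatedSpace ((bcDiag t @ht pr).obj i) := fun i => by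
    haveI := C.quasiSeparatedSpace_D f i
    exact quasiSeparatedSpace_of_quasiSeparated (pullback.fst (t i) pr)
  have hK' : Dix.CohDimLEAt (Spec (CommRingCat.of K')) p 0 :=
    cohDimLEAt_trdeg_sepClosed hp K' K' (by rw [trdeg_eq_zero]; exact zero_le)
  have hstage : ∀ i, CdK ((bcDiag t @ht pr).obj i) p (2 * n) := fun i => by
    let q : (bcDiag t @ht pr).obj i ⟶ Spec (CommRingCat.of K') := pullback.snd (t i) pr
    haveI : LocallyOfFiniteType q := MorphismProperty.pullback_snd _ _ inferInstance
    haveI : QuasiCompact q := inferInstance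
    letI : Algebra K K' := j.toAlgebra
    haveI : AlgebraicGeometry.Etale ((C.t f).app i) := ((EtCoh.bc f).obj (C.DS.obj i)).prop
    haveI := EtShLib.locallyQuasiFinite_of_etale ((C.t f).app i)
    have hd : topologicalKrullDim ((bcDiag t @ht pr).obj i) ≤ (n : WithBot ℕ∞) :=
      ((FibDimLib.topologicalKrullDim_pullback_field K K' (t i)).trans_le
        (TopDimLib.topologicalKrullDim_le_closure_range ((C.t f).app i))).trans
        ((Topology.IsInducing.subtypeVal.topologicalKrullDim_le).trans hn)
    exact (cdK_of_at (cohDimLEAt_two_mul q hp hd hK')).mono (by omega)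
  have hlim := cdK_limit (bcDiag t @ht pr) (bcCone t @ht pr (C.c f sq) s hs)
    (isLimitBcCone t @ht pr (C.c f sq) s hs (C.isLimit f sq)) hstage
  let σ : pullback f gS ⟶ pullback s pr := pullback.lift (𝟙 _)
    (pullback.snd f gS ≫ Spec.map (CommRingCat.ofHom ψ)) (by
      rw [Category.id_comp, Category.assoc, ← Spec.map_comp, ← CommRingCat.ofHom_comp, hψ, hφ,
        ← pullback.condition_assoc, w])
  haveI : IsClosedImmersion σ := by
    haveI : IsClosedImmersion (σ ≫ pullback.fst s pr) := by
      rw [show σ ≫ pullback.fst s pr = 𝟙 _ from pullback.lift_fst _ _ _]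
      infer_instance
    exact IsClosedImmersion.of_comp σ (pullback.fst s pr)
  exact cdK_finite σ hlim

include a b in
theorem relCohDimLE (f : X ⟶ Y) (w : f ≫ b = a) [QuasiCompact f] [QuasiSeparated f] [LocallyOfFiniteType b]
    [QuasiCompact b] {n : ℕ} (hn : topologicalKrullDim X ≤ (n : WithBot ℕ∞)) (F : EtCoh.Ab X)
    (hF : EtCoh.IsTorsion F) (q : ℕ) (hq : 2 * n < q) : IsZero ((EtCoh.Rpush f q).obj F) := by
  haveI := isNoetherian_of_field b
  haveI : LocallyOfFiniteType f := by
    haveI : LocallyOfFiniteType (f ≫ b) := by rw [w]; infer_instance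
    exact locallyOfFiniteType_of_comp f b
  refine isZero_of_geomPt_stalks _ fun y => ?_
  let R := HenselLib.SH (Y.presheaf.stalk y)
  haveI hS : Hensel.IsStrictHenselization (Y.presheaf.stalk y) R := inferInstance
  haveI : IsSepClosed (IsLocalRing.ResidueField R) := hS.isSepClosure.sep_closed
  haveI : IsNoetherianRing R := (Groth.Agent.S0540.result (Y.presheaf.stalk y) R).1 inferInstance
  refine ⟨R, inferInstance, inferInstance, inferInstance, inferInstance, inferInstance, ?_⟩
  obtain ⟨e⟩ := Groth.Agent.S0620.result f F y R q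
  refine e.addCommGroupIsoToAddEquiv.toEquiv.subsingleton_congr.2 ?_
  let W := pullback f (Hens2.specOf Y y R)
  haveI : IsNoetherian W :=
    { toIsLocallyNoetherian := LocallyOfFiniteType.isLocallyNoetherian (pullback.snd f (Hens2.specOf Y y R))
      toCompactSpace := QuasiCompact.compactSpace_of_compactSpace (pullback.snd f (Hens2.specOf Y y R)) }
  exact cohDimLE_of_cdK (fun p hp => cdK_fibre a b f w hn y R hp) _
    (CdCurveLib.isTorsion_pull_map _ hF) q hq

end CdFieldLib
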